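import Cfsg.Agent.CompLength.Series

/-!
# Reduction of the composition length bound to primitive groups
-/

set_option autoImplicit false

namespace CfsgLib.CompLength

open MulAction
open scoped Pointwise

/-- The number of orbits. -/
noncomputable abbrev orbits (G Ω : Type*) [Group G] [MulAction G Ω] : ℕ :=
  Nat.card (Quotient (orbitRel G Ω))

/-- The bound `4 (n - r) / 3` on the composition length. -/
def Bound (G Ω : Type*) [Group G] [MulAction G Ω] : Prop :=
  LenBd G (4 * (Nat.card Ω - orbits G Ω))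

/-- The bound for all permutation groups of degree less than `n`. -/
def SmallBound (n : ℕ) : Prop :=
  ∀ m, m < n → ∀ H : Subgroup (Equiv.Perm (Fin m)), Bound H (Fin m)

theorem orbits_le {G Ω : Type*} [Group G] [MulAction G Ω] [Finite Ω] : orbits G Ω ≤ Nat.card Ω :=
  Nat.card_le_card_of_surjective (Quotient.mk (orbitRel G Ω)) Quotient.mk_surjective

theorem one_le_orbits {G Ω : Type*} [Group G] [MulAction G Ω] [Finite Ω] [Nonempty Ω] :
    1 ≤ orbits G Ω :=
  Nat.card_pos_iff.2 ⟨⟨Quotient.mk (orbitRel G Ω) (Classical.arbitrary Ω)⟩, inferInstance⟩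

theorem orbits_eq_one_iff {G Ω : Type*} [Group G] [MulAction G Ω] [Finite Ω] [Nonempty Ω] :
    orbits G Ω = 1 ↔ IsPretransitive G Ω := by
  constructor
  · intro h
    haveI := (Nat.card_eq_one_iff_unique.1 h).1
    exact ⟨fun x y => mem_orbit_iff.1
      (orbitRel_apply.1 (Quotient.exact (Subsingleton.elim (Quotient.mk (orbitRel G Ω) y) (Quotient.mk _ x))))⟩
  · intro h
    haveI : Subsingleton (Quotient (orbitRel G Ω)) := ⟨fun a b => by
      induction a using Quotient.inductionOn with | _ x =>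
      induction b using Quotient.inductionOn with | _ y =>
      exact Quotient.sound (mem_orbit_iff.2 (exists_smul_eq G y x))⟩
    exact Nat.card_eq_one_iff_unique.2
      ⟨inferInstance, ⟨Quotient.mk _ (Classical.arbitrary Ω)⟩⟩

/-- Faithful actions of degree less than `n` satisfy the bound. -/
theorem SmallBound.bound {n : ℕ} (h : SmallBound n) {G Ω : Type*} [Group G] [MulAction G Ω]
    [FaithfulSMul G Ω] [Finite Ω] (hlt : Nat.card Ω < n) : Bound G Ω := by
  set e : Ω ≃ Fin (Nat.card Ω) := Finite.equivFin Ω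
  let f : G →* Equiv.Perm (Fin (Nat.card Ω)) :=
    (e.permCongrHom).toMonoidHom.comp (MulAction.toPermHom G Ω)
  have hf : Function.Injective f := e.permCongrHom.injective.comp MulAction.toPerm_injective
  have hb := h _ hlt f.range
  have happ : ∀ (g : G) (y : Ω), (f g) (e y) = e (g • y) := fun g y => by
    show e (g • e.symm (e y)) = _
    rw [e.symm_apply_apply]
  have heq : orbits G Ω = orbits f.range (Fin (Nat.card Ω)) := by
    refine Nat.card_congr (Quotient.congr e fun x y => ?_)
    simp only [orbitRel_apply, mem_orbit_iff]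
    constructor
    · rintro ⟨g, rfl⟩
      exact ⟨⟨f g, g, rfl⟩, happ g _⟩
    · rintro ⟨⟨_, g, rfl⟩, hg⟩
      exact ⟨g, e.injective ((happ g _).symm.trans hg)⟩
  rw [Bound, heq]
  rw [Bound, Nat.card_fin] at hb
  exact hb.congr (MonoidHom.ofInjective hf).symm

/-- A group embedded in the symmetric group on fewer than `n` points. -/
theorem SmallBound.of_embedding {n : ℕ} (h : SmallBound n) {G Ω : Type*} [Group G] [Finite Ω]
    (f : G →* Equiv.Perm Ω) (hf : Function.Injective f) (hlt : Nat.card Ω < n) :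
    LenBd G (4 * (n - 1)) := by
  have hb : Bound f.range Ω := h.bound hlt
  exact (hb.congr (MonoidHom.ofInjective hf).symm).mono (by omega)

/-- The intransitive case. -/
theorem bound_of_intransitive {G Ω : Type*} [Group G] [MulAction G Ω] [FaithfulSMul G Ω] [Finite Ω]
    [Nonempty Ω] (h : SmallBound (Nat.card Ω)) (hnt : ¬ IsPretransitive G Ω) : Bound G Ω := by
  classical
  haveI := Fintype.ofFinite Ω
  obtain a := Classical.arbitrary Ω
  set O : Set Ω := orbit G a with hO
  have hOne : O ≠ Set.univ := fun hu => hnt ⟨fun x y => by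
    obtain ⟨g, hg⟩ := mem_orbit_iff.1 (hu.ge (Set.mem_univ x) : x ∈ orbit G a)
    obtain ⟨g', hg'⟩ := mem_orbit_iff.1 (hu.ge (Set.mem_univ y) : y ∈ orbit G a)
    exact ⟨g' * g⁻¹, by rw [mul_smul, ← hg, inv_smul_smul, hg']⟩⟩
  set f : G →* Equiv.Perm O := MulAction.toPermHom G O with hf
  let C : SubMulAction f.ker Ω :=
    { carrier := Oᶜ
      smul_mem' := fun k x hx hkx => hx (by
        have := orbit_eq_iff.2 hkx
        rw [hO, ← this]
        exact mem_orbit_iff.2 ⟨(k : G)⁻¹, by rw [Subgroup.smul_def, inv_smul_smul]⟩) }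
  have hcard : Nat.card O + Nat.card C = Nat.card Ω := by
    rw [Nat.card_coe_set_eq, show Nat.card C = Nat.card ↑(Oᶜ) from rfl, Nat.card_coe_set_eq,
      Set.ncard_add_ncard_compl]
  have hO1 : 0 < Nat.card O := Nat.card_pos_iff.2 ⟨⟨⟨a, mem_orbit_self a⟩⟩, inferInstance⟩
  have hC1 : 0 < Nat.card C := by
    obtain ⟨x, hx⟩ := Set.ne_univ_iff_exists_notMem O |>.1 hOne
    exact Nat.card_pos_iff.2 ⟨⟨⟨x, hx⟩⟩, inferInstance⟩
  haveI : FaithfulSMul f.ker C := ⟨fun {k l} hkl => Subtype.ext (eq_of_smul_eq_smul (α := Ω) fun x => by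
    by_cases hx : x ∈ O
    · have h1 : ((k : G) • (⟨x, hx⟩ : O) : O) = ⟨x, hx⟩ := Equiv.congr_fun k.2 ⟨x, hx⟩
      have h2 : ((l : G) • (⟨x, hx⟩ : O) : O) = ⟨x, hx⟩ := Equiv.congr_fun l.2 ⟨x, hx⟩
      exact congrArg Subtype.val (h1.trans h2.symm)
    · exact congrArg Subtype.val (hkl ⟨x, hx⟩))⟩
  haveI : IsPretransitive f.range O := ⟨fun x y => by
    obtain ⟨g, hg⟩ := exists_smul_eq G x y
    exact ⟨⟨f g, g, rfl⟩, hg⟩⟩
  haveI : Nonempty O := ⟨⟨a, mem_orbit_self a⟩⟩
  have hI : Bound f.range O := h.bound (by omega)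
  have hK : Bound f.ker C := h.bound (by omega)
  have horb : orbits G Ω ≤ orbits f.ker C + 1 := by
    rw [orbits, orbits, ← Finite.card_option]
    refine Nat.card_le_card_of_surjective (fun o : Option (Quotient (orbitRel f.ker C)) => o.elim
      (Quotient.mk _ a) (Quotient.lift (fun c : C => Quotient.mk (orbitRel G Ω) (c : Ω)) ?_)) ?_
    · intro c d hcd
      obtain ⟨k, hk⟩ := mem_orbit_iff.1 (orbitRel_apply.1 hcd)
      exact Quotient.sound (mem_orbit_iff.2 ⟨(k : G), congrArg Subtype.val hk⟩)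
    · intro q
      induction q using Quotient.inductionOn with | _ x =>
      by_cases hx : x ∈ O
      · exact ⟨none, Quotient.sound (orbitRel_apply.2 (mem_orbit_symm.1 hx))⟩
      · exact ⟨some (Quotient.mk _ ⟨x, hx⟩), rfl⟩
  have h1 : orbits f.range O = 1 := orbits_eq_one_iff.2 inferInstance
  have h2 := orbits_le (G := f.ker) (Ω := C)
  refine (LenBd.of_hom f hK hI).mono ?_
  omega

/-- The imprimitive case. -/
theorem bound_of_imprimitive {G Ω : Type*} [Group G] [MulAction G Ω] [FaithfulSMul G Ω] [Finite Ω]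
    [IsPretransitive G Ω] [Nonempty Ω] (h : SmallBound (Nat.card Ω)) (B : Set Ω) (hB : IsBlock G B)
    (hB1 : 1 < B.ncard) (hB2 : B ≠ Set.univ) : Bound G Ω := by
  classical
  haveI := Fintype.ofFinite Ω
  have hBne : B.Nonempty := Set.nonempty_of_ncard_ne_zero (by omega)
  set O : Set (Set Ω) := orbit G B with hO
  set f : G →* Equiv.Perm O := MulAction.toPermHom G O with hf
  have hmul := hB.ncard_block_mul_ncard_orbit_eq hBne
  rw [← hO] at hmul
  have hOcard : Nat.card O = O.ncard := Nat.card_coe_set_eq O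
  have hm2 : 2 ≤ O.ncard := by
    by_contra hc
    push Not at hc
    refine hB2 (Set.eq_of_subset_of_ncard_le (Set.subset_univ _) ?_)
    rw [Set.ncard_univ, ← hmul]
    calc B.ncard * O.ncard ≤ B.ncard * 1 := Nat.mul_le_mul_left _ (by omega)
      _ = B.ncard := mul_one _
  have hlt : Nat.card O < Nat.card Ω := by
    rw [hOcard, ← hmul]
    exact (Nat.lt_mul_iff_one_lt_left (by omega)).2 hB1
  haveI : IsPretransitive f.range O := ⟨fun x y => by
    obtain ⟨g, hg⟩ := exists_smul_eq G x y
    exact ⟨⟨f g, g, rfl⟩, hg⟩⟩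
  haveI : Nonempty O := ⟨⟨B, mem_orbit_self B⟩⟩
  have hI : Bound f.range O := h.bound hlt
  have hblock : ∀ X ∈ O, ∀ Y ∈ O, (X ∩ Y).Nonempty → X = Y := by
    intro X hX Y hY hne
    obtain ⟨g, rfl⟩ := hX
    obtain ⟨g', rfl⟩ := hY
    by_contra hXY
    exact Set.not_disjoint_iff_nonempty_inter.2 hne (hB hXY)
  have horb : O.ncard ≤ orbits f.ker Ω := by
    rw [← hOcard, orbits]
    have hpick : ∀ X : O, ∃ x, x ∈ (X : Set Ω) := by
      rintro ⟨_, g, rfl⟩
      exact ⟨g • hBne.choose, Set.smul_mem_smul_set hBne.choose_spec⟩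
    choose pick hpick using hpick
    refine Nat.card_le_card_of_injective (fun X => Quotient.mk (orbitRel f.ker Ω) (pick X)) fun X Y hXY => ?_
    obtain ⟨k, hk⟩ := mem_orbit_iff.1 (orbitRel_apply.1 (Quotient.exact hXY))
    have hkY : ((k : G) • (Y : Set Ω)) = Y := congrArg Subtype.val (Equiv.congr_fun k.2 Y)
    refine Subtype.ext (hblock _ X.2 _ Y.2 ⟨pick X, hpick X, ?_⟩)
    rw [← hkY, ← hk]
    exact Set.smul_mem_smul_set (hpick Y)
  have hK : Bound f.ker Ω := by
    refine bound_of_intransitive h fun ht => ?_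
    rw [orbits_eq_one_iff.2 ht] at horb
    omega
  have h1 : orbits f.range O = 1 := orbits_eq_one_iff.2 inferInstance
  have h0 : orbits G Ω = 1 := orbits_eq_one_iff.2 inferInstance
  have h2 := orbits_le (G := f.ker) (Ω := Ω)
  refine (LenBd.of_hom f hK hI).mono ?_
  omega

end CfsgLib.CompLength
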