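import Cfsg.Agent.CompLength.Numeric
import Cfsg.Agent.CompLength.Reduce
import Cfsg.Agent.MinNormal.Action

/-!
# The composition length of an affine primitive group
-/

set_option autoImplicit false

namespace CfsgLib.CompLength

open MulAction

section Stabilizer

variable {G Ω : Type*} [Group G] [MulAction G Ω]

theorem card_ofStabilizer [Finite Ω] (a : Ω) :
    Nat.card (SubMulAction.ofStabilizer G a) = Nat.card Ω - 1 := by
  rw [show Nat.card (SubMulAction.ofStabilizer G a) = Nat.card ↑({a}ᶜ : Set Ω) from
    Nat.card_congr (Equiv.setCongr (SubMulAction.ofStabilizer_carrier G a)),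
    Nat.card_coe_set_eq, Set.ncard_compl, Set.ncard_singleton]

theorem toPermHom_ofStabilizer_injective [FaithfulSMul G Ω] (a : Ω) :
    Function.Injective (MulAction.toPermHom (stabilizer G a) (SubMulAction.ofStabilizer G a)) := by
  intro g h hgh
  refine Subtype.ext (eq_of_smul_eq_smul (α := Ω) fun x => ?_)
  by_cases hx : x = a
  · rw [hx]; exact g.2.trans h.2.symm
  · exact congrArg Subtype.val (Equiv.congr_fun hgh ⟨x, hx⟩)

theorem faithfulSMul_ofStabilizer [FaithfulSMul G Ω] (a : Ω) :
    FaithfulSMul (stabilizer G a) (SubMulAction.ofStabilizer G a) :=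
  ⟨fun h => toPermHom_ofStabilizer_injective a (Equiv.ext h)⟩

/-- The map from a point stabiliser onto the quotient by a transitive normal subgroup. -/
theorem stabilizer_to_quotient_surjective (a : Ω) (N : Subgroup G) [N.Normal] [IsPretransitive N Ω] :
    Function.Surjective ((QuotientGroup.mk' N).comp (stabilizer G a).subtype) := by
  intro q
  induction q using QuotientGroup.induction_on with | _ g =>
  obtain ⟨⟨n, hn⟩, hna⟩ := exists_smul_eq N (g • a) a
  have hna' : n • g • a = a := hna
  refine ⟨⟨n * g, by rw [mem_stabilizer_iff, mul_smul, hna']⟩, ?_⟩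
  show ((n * g : G) : G ⧸ N) = g
  rw [QuotientGroup.eq]
  simpa [mul_assoc] using (inferInstance : N.Normal).conj_mem n⁻¹ (N.inv_mem hn) g⁻¹

end Stabilizer

theorem exists_small_generators {N : Type*} [Group N] [Finite N] {p : ℕ} (hp : p.Prime) {d : ℕ}
    (hN : Nat.card N = p ^ d) : ∃ s : Finset N, s.card ≤ d ∧ Subgroup.closure (↑s : Set N) = ⊤ := by
  classical
  haveI := Fact.mk hp
  suffices ∀ j, ∃ s : Finset N, s.card ≤ j ∧
      (Subgroup.closure (↑s : Set N) = ⊤ ∨ p ^ j ≤ Nat.card (Subgroup.closure (↑s : Set N))) by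
    obtain ⟨s, hs, h | h⟩ := this d
    · exact ⟨s, hs, h⟩
    · exact ⟨s, hs, Subgroup.eq_top_of_le_card _ (hN ▸ h)⟩
  intro j
  induction j with
  | zero => exact ⟨∅, le_rfl, Or.inr (by simp)⟩
  | succ j ih =>
    obtain ⟨s, hs, h⟩ := ih
    by_cases htop : Subgroup.closure (↑s : Set N) = ⊤
    · exact ⟨s, by omega, Or.inl htop⟩
    have hcard := h.resolve_left htop
    obtain ⟨x, hx⟩ : ∃ x, x ∉ Subgroup.closure (↑s : Set N) := by
      by_contra hc
      push Not at hc
      exact htop ((Subgroup.eq_top_iff' _).2 hc)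
    refine ⟨insert x s, (Finset.card_insert_le _ _).trans (by omega), Or.inr ?_⟩
    set K := Subgroup.closure (↑s : Set N)
    set L := Subgroup.closure (↑(insert x s) : Set N)
    have hKL : K ≤ L := Subgroup.closure_mono (by simp)
    have hlt : K < L := lt_of_le_of_ne hKL fun he => hx (he ▸ Subgroup.subset_closure (by simp))
    have hmul : Nat.card K * K.relIndex L = Nat.card L := by
      rw [← Nat.card_congr (Subgroup.subgroupOfEquivOfLe hKL).toEquiv]
      exact Subgroup.card_mul_index _
    have hp_le : p ≤ K.relIndex L := by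
      have hne : K.relIndex L ≠ 1 := fun h1 => hlt.not_ge (Subgroup.relIndex_eq_one.1 h1)
      obtain ⟨q, hq, hqd⟩ := Nat.exists_prime_and_dvd hne
      have hqN : q ∣ p ^ d :=
        hN ▸ hqd.trans ((Dvd.intro_left _ hmul).trans (Subgroup.card_subgroup_dvd_card L))
      rw [(Nat.prime_dvd_prime_iff_eq hq hp).1 (hq.dvd_of_dvd_pow hqN)] at hqd
      exact Nat.le_of_dvd (Nat.pos_of_ne_zero (Subgroup.FiniteIndex.index_ne_zero (H := K.subgroupOf L))) hqd
    rw [pow_succ, ← hmul]
    exact Nat.mul_le_mul hcard hp_le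

variable {G Ω : Type*} [Group G] [MulAction G Ω] [FaithfulSMul G Ω] [Finite G] [Finite Ω]
  [IsPreprimitive G Ω] [Nontrivial Ω]

/-- The affine case. -/
theorem lenBd_of_abelian {N : Subgroup G} (hN : MinNormal.IsMinNormal N)
    (hab : IsMulCommutative N) : LenBd G (4 * (Nat.card Ω - 1)) := by
  classical
  haveI := hN.normal
  haveI := hab
  haveI : IsPretransitive N Ω := MinNormal.isPretransitive_of_ne_bot hN.ne_bot
  obtain a := Classical.arbitrary Ω
  have hfree : ∀ n : N, (n : G) • a = a → n = 1 := fun n hn => Subtype.ext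
    (MinNormal.eq_one_of_fix_of_commute (fun m hm => congrArg Subtype.val (hab.is_comm.comm n ⟨m, hm⟩)) hn)
  have hcardN : Nat.card N = Nat.card Ω := by
    refine Nat.card_eq_of_bijective (fun n : N => (n : G) • a) ⟨fun n m h => ?_, fun x => exists_smul_eq N a x⟩
    have h' : ((m⁻¹ * n : N) : G) • a = a := by
      rw [Subgroup.coe_mul, mul_smul, Subgroup.coe_inv, inv_smul_eq_iff]
      exact h
    exact (inv_mul_eq_one.1 (hfree _ h')).symm
  obtain ⟨p, hp, hpd⟩ := Nat.exists_prime_and_dvd (Finite.one_lt_card (α := Ω)).ne'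
  haveI := Fact.mk hp
  have hpg : IsPGroup p N := by
    obtain ⟨P⟩ : Nonempty (Sylow p N) := inferInstance
    have hPn : (P : Subgroup N).Normal := inferInstance
    have hPc : (P : Subgroup N).Characteristic := Sylow.characteristic_of_normal P hPn
    have hn : ((P : Subgroup N).map N.subtype).Normal := inferInstance
    rcases hN.minimal _ hn (Subgroup.map_subtype_le _) with h | h
    · exact absurd ((Subgroup.map_eq_bot_iff_of_injective _ N.subtype_injective).1 h)
        (P.ne_bot_of_dvd_card (hcardN ▸ hpd))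
    · rw [← h]; exact P.2.map _
  obtain ⟨d, hd⟩ := hpg.exists_card_eq
  have hd1 : 1 ≤ d := by
    by_contra h0
    have : d = 0 := by omega
    rw [hcardN, this, pow_zero] at hd
    exact (Finite.one_lt_card (α := Ω)).ne' hd
  -- the stabiliser is determined by its effect on a generating set
  obtain ⟨s, hs, hgen⟩ := exists_small_generators hp hd
  obtain ⟨z, hz, hz1⟩ := N.bot_or_exists_ne_one.resolve_left hN.ne_bot
  let g : Fin d → N := fun i =>
    if h : (i : ℕ) < (s.erase 1).card then ((s.erase 1).equivFin.symm ⟨i, h⟩ : N) else ⟨z, hz⟩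
  have hg1 : ∀ i, g i ≠ 1 := fun i => by
    simp only [g]
    split
    · exact (Finset.mem_erase.1 ((s.erase 1).equivFin.symm _).2).1
    · exact fun h => hz1 (congrArg Subtype.val h)
  have hsd : (s.erase 1).card ≤ d := (Finset.card_erase_le).trans hs
  have hgtop : Subgroup.closure (Set.range g) = ⊤ := by
    rw [eq_top_iff, ← hgen, Subgroup.closure_le]
    intro x hx
    by_cases hx1 : x = 1
    · rw [hx1]; exact one_mem _
    refine Subgroup.subset_closure ?_
    set j := (s.erase 1).equivFin ⟨x, Finset.mem_erase.2 ⟨hx1, hx⟩⟩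
    refine ⟨⟨j, lt_of_lt_of_le j.2 hsd⟩, ?_⟩
    simp [g, j]
  let ev : stabilizer G a → (Fin d → SubMulAction.ofStabilizer G a) := fun h i =>
    ⟨(h : G) • (g i : G) • a, fun he => hg1 i (hfree _ (smul_left_cancel (h : G)
      ((Set.mem_singleton_iff.1 he).trans h.2.symm)))⟩
  have hev : Function.Injective ev := by
    intro h h' hhh
    suffices ((h'⁻¹ * h : stabilizer G a) : G) = 1 from (inv_mul_eq_one.1 (Subtype.ext this)).symm
    set k : G := ((h'⁻¹ * h : stabilizer G a) : G) with hk
    have hkf : k • a = a := (h'⁻¹ * h).2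
    refine MinNormal.eq_one_of_fix_of_commute (N := N) (fun m hm => ?_) hkf
    have hle : ∀ x : N, x ∈ Subgroup.closure (Set.range g) → Commute k (x : G) := by
      intro x hx
      induction hx using Subgroup.closure_induction with
      | mem x hx =>
        obtain ⟨i, rfl⟩ := hx
        have h1 : (h : G) • (g i : G) • a = (h' : G) • (g i : G) • a :=
          congrArg Subtype.val (congrFun hhh i)
        have h2 : k • (g i : G) • a = (g i : G) • a := by
          rw [hk, Subgroup.coe_mul, mul_smul, h1, Subgroup.coe_inv, inv_smul_smul]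
        have hc : k * (g i : G) * k⁻¹ ∈ N := hN.normal.conj_mem _ (g i).2 k
        have h3 : ((g i)⁻¹ * ⟨_, hc⟩ : N) = 1 := hfree _ (by
          have hki : k⁻¹ • a = a := by rw [inv_smul_eq_iff, hkf]
          simp only [Subgroup.coe_mul, Subgroup.coe_inv, mul_smul]
          rw [hki, h2, inv_smul_smul])
        rw [inv_mul_eq_one] at h3
        have h4 : (g i : G) = k * (g i : G) * k⁻¹ := congrArg Subtype.val h3
        exact (eq_mul_inv_iff_mul_eq.1 h4).symm
      | one => exact Commute.one_right k
      | mul x y _ _ hx hy => exact hx.mul_right hy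
      | inv x _ hx => exact hx.inv_right
    exact hle ⟨m, hm⟩ (hgtop.ge (Subgroup.mem_top _))
  set m := Nat.card (stabilizer G a)
  have hpd' : Nat.card Ω = p ^ d := hcardN ▸ hd
  have hle : m ≤ (p ^ d - 1) ^ d := by
    have := Nat.card_le_card_of_injective ev hev
    rwa [Nat.card_fun, card_ofStabilizer, Nat.card_fin, hpd'] at this
  have hdvd : m ∣ (p ^ d - 1).factorial := by
    rw [← hpd', ← card_ofStabilizer (G := G) a, ← Nat.card_perm]
    exact Subgroup.card_dvd_of_injective _ (toPermHom_ofStabilizer_injective a)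
  have hNb : LenBd N (3 * d) := (lenBd_cardFactors (G := N)).mono (by
    rw [hd, ArithmeticFunction.cardFactors_apply_prime_pow hp])
  have hQ : LenBd (G ⧸ N) (3 * ArithmeticFunction.cardFactors m) :=
    LenBd.of_surjective _ (stabilizer_to_quotient_surjective a N) (lenBd_cardFactors (G := stabilizer G a))
  refine (LenBd.extension N hNb hQ).mono ?_
  have := affine_numeric hp hd1 hdvd hle
  rw [hpd']
  omega

end CfsgLib.CompLength
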