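import Cfsg.Agent.CompLength.PiSimple

/-!
# Conjugation on a minimal normal subgroup isomorphic to a power of a simple group
-/

set_option autoImplicit false

namespace CfsgLib.CompLength

open Subgroup

section Aut

variable {ι : Type*} [DecidableEq ι] [Finite ι] {T : Type*} [Group T] [IsSimpleGroup T]
  (hT : ¬ IsMulCommutative T) (σ : (ι → T) ≃* (ι → T))

/-- The index of the image of a factor. -/
noncomputable def mapIdx (i : ι) : ι := (exists_map_factor hT σ i).choose

theorem map_factor_eq (i : ι) : (factor T i).map σ.toMonoidHom = factor T (mapIdx hT σ i) :=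
  (exists_map_factor hT σ i).choose_spec

theorem mapIdx_eq {i j : ι} (h : (factor T i).map σ.toMonoidHom ≤ factor T j) :
    mapIdx hT σ i = j :=
  eq_of_factor_le ((map_factor_eq hT σ i).ge.trans h)

theorem mapIdx_injective : Function.Injective (mapIdx hT σ) := fun i j h => by
  have h1 : (factor T i).map σ.toMonoidHom = (factor T j).map σ.toMonoidHom := by
    rw [map_factor_eq hT, map_factor_eq hT, h]
  exact eq_of_factor_le (map_injective σ.injective h1).le

theorem mapIdx_surjective : Function.Surjective (mapIdx hT σ) :=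
  Finite.injective_iff_surjective.1 (mapIdx_injective hT σ)

include hT in
theorem apply_eq_one_iff_commute (f : ι → T) (i : ι) :
    f i = 1 ↔ ∀ x ∈ factor T i, f * x = x * f := by
  constructor
  · intro h x hx
    funext j
    by_cases hj : j = i
    · subst hj; simp [h]
    · simp [mem_factor.1 hx j hj]
  · intro h
    by_contra hi
    obtain ⟨b, hb⟩ := exists_not_commute hT hi
    have h1 := congrFun (h _ (mulSingle_mem_factor i b)) i
    simp at h1
    exact hb (by rw [h1]; group)

theorem apply_mapIdx_eq_one_iff (f : ι → T) (i : ι) :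
    σ f (mapIdx hT σ i) = 1 ↔ f i = 1 := by
  rw [apply_eq_one_iff_commute hT, apply_eq_one_iff_commute hT, ← map_factor_eq hT σ i]
  constructor
  · intro h x hx
    exact σ.injective (by rw [map_mul, map_mul]; exact h _ ⟨x, hx, rfl⟩)
  · rintro h _ ⟨x, hx, rfl⟩
    show σ f * σ x = σ x * σ f
    rw [← map_mul, ← map_mul, h x hx]

theorem apply_mapIdx (f : ι → T) (i : ι) :
    σ f (mapIdx hT σ i) = σ (Pi.mulSingle i (f i)) (mapIdx hT σ i) := by
  have h : (f * (Pi.mulSingle i (f i) : ι → T)⁻¹) i = 1 := by simp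
  have h1 := (apply_mapIdx_eq_one_iff hT σ _ i).2 h
  rw [map_mul, map_inv] at h1
  simpa [mul_inv_eq_one] using h1

theorem map_mulSingle_eq (i : ι) (t : T) :
    σ (Pi.mulSingle i t) = Pi.mulSingle (mapIdx hT σ i) (σ (Pi.mulSingle i t) (mapIdx hT σ i)) :=
  eq_mulSingle_of_mem_factor ((map_factor_eq hT σ i).le ⟨_, mulSingle_mem_factor i t, rfl⟩)

/-- The projections of an invariant subgroup, placed in the factors, are permuted. -/
theorem map_proj_eq (D : Subgroup (ι → T)) (hD : D.map σ.toMonoidHom = D) (i : ι) :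
    ((D.map (Pi.evalMonoidHom (fun _ : ι => T) i)).map (MonoidHom.mulSingle (fun _ : ι => T) i)).map
        σ.toMonoidHom =
      (D.map (Pi.evalMonoidHom (fun _ : ι => T) (mapIdx hT σ i))).map
        (MonoidHom.mulSingle (fun _ : ι => T) (mapIdx hT σ i)) := by
  ext x
  constructor
  · rintro ⟨_, ⟨_, ⟨d, hd, rfl⟩, rfl⟩, rfl⟩
    refine ⟨σ d (mapIdx hT σ i), ⟨σ d, hD.le ⟨d, hd, rfl⟩, rfl⟩, ?_⟩
    show Pi.mulSingle _ (σ d (mapIdx hT σ i)) = σ (Pi.mulSingle i (d i))
    rw [apply_mapIdx hT σ d i]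
    exact (map_mulSingle_eq hT σ i (d i)).symm
  · rintro ⟨_, ⟨d', hd', rfl⟩, rfl⟩
    obtain ⟨d, hd, rfl⟩ := hD.ge hd'
    refine ⟨Pi.mulSingle i (d i), ⟨d i, ⟨d, hd, rfl⟩, rfl⟩, ?_⟩
    show σ (Pi.mulSingle i (d i)) = Pi.mulSingle _ (σ d (mapIdx hT σ i))
    rw [apply_mapIdx hT σ d i]
    exact map_mulSingle_eq hT σ i (d i)

include hT in
theorem card_supp_map [Fintype ι] [DecidableEq T] (f : ι → T) :
    (Finset.univ.filter fun j => σ f j ≠ 1).card = (Finset.univ.filter fun i => f i ≠ 1).card := by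
  refine (Finset.card_bij (fun i _ => mapIdx hT σ i) ?_ ?_ ?_).symm
  · intro i hi
    simp only [Finset.mem_filter, Finset.mem_univ, true_and] at hi ⊢
    exact fun h => hi ((apply_mapIdx_eq_one_iff hT σ f i).1 h)
  · exact fun a _ b _ h => mapIdx_injective hT σ h
  · intro j hj
    obtain ⟨i, rfl⟩ := mapIdx_surjective hT σ j
    simp only [Finset.mem_filter, Finset.mem_univ, true_and] at hj
    exact ⟨i, by simpa using fun h => hj ((apply_mapIdx_eq_one_iff hT σ f i).2 h), rfl⟩

end Aut

section Minimal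

variable {G : Type*} [Group G] {N : Subgroup G} [N.Normal] {ι : Type*} [DecidableEq ι] [Fintype ι]
  {T : Type*} [Group T] [IsSimpleGroup T] (e : N ≃* (ι → T))

/-- Conjugation by `g`, read in the power of `T`. -/
def conjPi (g : G) : (ι → T) ≃* (ι → T) :=
  (e.symm.trans (MulAut.conjNormal g : MulAut N)).trans e

omit [DecidableEq ι] [Fintype ι] [IsSimpleGroup T] in
theorem coe_symm_conjPi (g : G) (f : ι → T) :
    ((e.symm (conjPi e g f) : N) : G) = g * (e.symm f : N) * g⁻¹ := by
  simp [conjPi]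

omit [DecidableEq ι] [Fintype ι] [IsSimpleGroup T] in
theorem conjPi_mul (g h : G) (f : ι → T) : conjPi e (g * h) f = conjPi e g (conjPi e h f) := by
  apply e.symm.injective
  apply Subtype.ext
  rw [coe_symm_conjPi, coe_symm_conjPi, coe_symm_conjPi]
  group

omit [DecidableEq ι] [Fintype ι] [IsSimpleGroup T] in
theorem conjPi_of_mem {n : G} (hn : n ∈ N) (f : ι → T) :
    conjPi e n f = e ⟨n, hn⟩ * f * (e ⟨n, hn⟩)⁻¹ := by
  apply e.symm.injective
  apply Subtype.ext
  rw [coe_symm_conjPi]
  simp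

variable (hT : ¬ IsMulCommutative T)

theorem mapIdx_conjPi_of_mem {n : G} (hn : n ∈ N) (i : ι) : mapIdx hT (conjPi e n) i = i := by
  refine mapIdx_eq hT _ ?_
  rintro _ ⟨x, hx, rfl⟩
  show conjPi e n x ∈ factor T i
  rw [conjPi_of_mem e hn]
  exact (factor_normal i).conj_mem x hx _

theorem mapIdx_conjPi_mul (g h : G) (i : ι) :
    mapIdx hT (conjPi e (g * h)) i = mapIdx hT (conjPi e g) (mapIdx hT (conjPi e h) i) := by
  refine mapIdx_eq hT _ ?_
  rintro _ ⟨x, hx, rfl⟩
  show conjPi e (g * h) x ∈ _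
  rw [conjPi_mul]
  exact (map_factor_eq hT (conjPi e g) _).le ⟨_, (map_factor_eq hT (conjPi e h) i).le ⟨x, hx, rfl⟩, rfl⟩

include hT in
/-- Minimality makes conjugation transitive on the factors. -/
theorem exists_mapIdx_eq (hmin : ∀ K : Subgroup G, K.Normal → K ≤ N → K = ⊥ ∨ K = N) (i j : ι) :
    ∃ g : G, mapIdx hT (conjPi e g) i = j := by
  by_contra hc
  push Not at hc
  obtain ⟨t, ht⟩ := exists_ne (1 : T)
  set x : G := ((e.symm (Pi.mulSingle i t) : N) : G) with hx
  set O : Set ι := {l | ∃ g : G, mapIdx hT (conjPi e g) i = l}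
  have hle : normalClosure {x} ≤ ((supported T O).comap e.toMonoidHom).map N.subtype := by
    rw [normalClosure, closure_le]
    intro y hy
    obtain ⟨a, ha, hay⟩ := Group.mem_conjugatesOfSet_iff.1 hy
    rw [Set.mem_singleton_iff] at ha
    subst ha
    obtain ⟨g, hg⟩ := isConj_iff.1 hay
    refine ⟨e.symm (conjPi e g (Pi.mulSingle i t)), ?_, ?_⟩
    · show e (e.symm _) ∈ supported T O
      rw [e.apply_symm_apply]
      intro l hl
      have := (map_factor_eq hT (conjPi e g) i).le ⟨_, mulSingle_mem_factor i t, rfl⟩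
      exact mem_factor.1 this l fun h => hl ⟨g, h.symm⟩
    · rw [coe_subtype, coe_symm_conjPi, ← hx, hg]
  rcases hmin _ normalClosure_normal (hle.trans (map_subtype_le _)) with h | h
  · have : x ∈ (⊥ : Subgroup G) := h ▸ subset_normalClosure (Set.mem_singleton x)
    rw [mem_bot, hx, ← N.coe_one, Subtype.val_inj, e.symm.map_eq_one_iff] at this
    exact ht (by simpa using congrFun this i)
  · obtain ⟨y, hy, hye⟩ := hle (h.ge (e.symm (Pi.mulSingle j t) : N).2)
    have hye' : y = e.symm (Pi.mulSingle j t) := Subtype.ext hye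
    have h1 : Pi.mulSingle j t ∈ supported T O := by
      simpa [hye'] using (show e y ∈ supported T O from hy)
    exact ht (by simpa using h1 j fun ⟨g, hg⟩ => hc g hg)

end Minimal

end CfsgLib.CompLength
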