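import Cfsg.Agent.CompLength.Semisimple

/-!
# The composition length of a permutation group is at most `4 (n - r) / 3`
-/

set_option autoImplicit false

namespace CfsgLib.CompLength

open MulAction

theorem bound_step {G Ω : Type*} [Group G] [MulAction G Ω] [FaithfulSMul G Ω] [Finite Ω]
    (h : SmallBound (Nat.card Ω)) : Bound G Ω := by
  classical
  haveI : Finite G := Finite.of_injective _ (MulAction.toPerm_injective (α := G) (β := Ω))
  rcases subsingleton_or_nontrivial Ω with hs | hnt
  · haveI : Subsingleton G := ⟨fun g g' => eq_of_smul_eq_smul (α := Ω) fun _ => Subsingleton.elim _ _⟩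
    exact lenBd_of_subsingleton _
  by_cases htr : IsPretransitive G Ω
  swap
  · exact bound_of_intransitive h htr
  by_cases hprim : IsPreprimitive G Ω
  · rw [Bound, orbits_eq_one_iff.2 htr]
    obtain ⟨N, hN, -⟩ := MinNormal.exists_isMinNormal_le (⊤ : Subgroup G) (fun hb => by
      obtain ⟨x, y, hxy⟩ := exists_pair_ne Ω
      obtain ⟨g, hg⟩ := exists_smul_eq G x y
      have : g ∈ (⊥ : Subgroup G) := hb ▸ Subgroup.mem_top g
      rw [Subgroup.mem_bot.1 this, one_smul] at hg
      exact hxy hg)
    by_cases hab : IsMulCommutative N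
    · exact lenBd_of_abelian hN hab
    · exact lenBd_of_nonabelian h hN hab
  · have hex : ∃ B : Set Ω, IsBlock G B ∧ ¬ IsTrivialBlock B := by
      by_contra hc
      push Not at hc
      exact hprim { toIsPretransitive := htr, isTrivialBlock_of_isBlock := fun {B} hB => hc B hB }
    obtain ⟨B, hB, hBt⟩ := hex
    rw [IsTrivialBlock, not_or] at hBt
    refine bound_of_imprimitive h B hB ?_ hBt.2
    by_contra hc
    push Not at hc
    exact hBt.1 ((Set.ncard_le_one_iff_subsingleton).1 hc)

theorem smallBound : ∀ n : ℕ, SmallBound n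
  | 0 => fun m hm => absurd hm (Nat.not_lt_zero m)
  | n + 1 => fun m hm H => by
    rcases Nat.lt_succ_iff_lt_or_eq.1 hm with h | h
    · exact smallBound n m h H
    · subst h
      exact bound_step (by rw [Nat.card_fin]; exact smallBound m)

/-- A series from `⊥` to `⊤` has length at most `4 (n - r) / 3`. -/
theorem series_le {G Ω : Type*} [Group G] [MulAction G Ω] [FaithfulSMul G Ω] [Finite Ω] {l : ℕ}
    (hl : Series (⊤ : Subgroup G) l) : 3 * l ≤ 4 * (Nat.card Ω - orbits G Ω) :=
  bound_step (smallBound _) l hl

end CfsgLib.CompLength
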