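import Mathlib

/-!
# The numerical inequality for affine primitive groups
-/

set_option autoImplicit false

namespace CfsgLib.CompLength

open ArithmeticFunction

theorem two_pow_cardFactors_le {m : ℕ} (hm : m ≠ 0) : 2 ^ cardFactors m ≤ m := by
  rw [cardFactors_apply]
  conv_rhs => rw [← Nat.prod_primeFactorsList hm]
  exact List.pow_card_le_prod _ 2 fun p hp => (Nat.prime_of_mem_primeFactorsList hp).two_le

theorem large_numeric {L : ℕ} (hL : 5 ≤ L) : 3 * (L * (L + 2)) + 4 ≤ 4 * 2 ^ L := by
  induction L, hL using Nat.le_induction with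
  | base => norm_num
  | succ L hL ih => rw [pow_succ]; nlinarith

theorem eight_numeric {m : ℕ} (hd : m ∣ 5040) (hle : m ≤ 343) : cardFactors m ≤ 6 := by
  have h5040 : (5040 : ℕ) = 2 ^ 4 * 3 ^ 2 * 5 ^ 1 * 7 ^ 1 := by norm_num
  rw [h5040] at hd
  obtain ⟨x, e, hx, he, rfl⟩ := Nat.dvd_mul.1 hd
  obtain ⟨y, c, hy, hc, rfl⟩ := Nat.dvd_mul.1 hx
  obtain ⟨a, b, ha, hb, rfl⟩ := Nat.dvd_mul.1 hy
  obtain ⟨i, hi, rfl⟩ := (Nat.dvd_prime_pow Nat.prime_two).1 ha
  obtain ⟨j, hj, rfl⟩ := (Nat.dvd_prime_pow Nat.prime_three).1 hb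
  obtain ⟨k, hk, rfl⟩ := (Nat.dvd_prime_pow (by norm_num : Nat.Prime 5)).1 hc
  obtain ⟨l, hl, rfl⟩ := (Nat.dvd_prime_pow (by norm_num : Nat.Prime 7)).1 he
  rw [cardFactors_mul (by positivity) (by positivity), cardFactors_mul (by positivity) (by positivity),
    cardFactors_mul (by positivity) (by positivity), cardFactors_apply_prime_pow Nat.prime_two,
    cardFactors_apply_prime_pow Nat.prime_three, cardFactors_apply_prime_pow (by norm_num),
    cardFactors_apply_prime_pow (by norm_num)]
  interval_cases i <;> interval_cases j <;> interval_cases k <;> interval_cases l <;> omega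

theorem affine_numeric {p d m : ℕ} (hp : p.Prime) (hd : 1 ≤ d) (hdvd : m ∣ (p ^ d - 1).factorial)
    (hle : m ≤ (p ^ d - 1) ^ d) : 3 * (d + cardFactors m) ≤ 4 * (p ^ d - 1) := by
  have hm : m ≠ 0 := fun h => (Nat.factorial_ne_zero _) (by simpa [h] using hdvd)
  have hpow := (two_pow_cardFactors_le hm).trans hle
  have hp2 := hp.two_le
  have h2d : 2 ^ d ≤ p ^ d := Nat.pow_le_pow_left hp2 d
  by_cases hn : 32 ≤ p ^ d
  · set n := p ^ d with hndef
    set L := Nat.log 2 n with hLdef
    have hL5 : 5 ≤ L := Nat.le_log_of_pow_le (by norm_num) hn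
    have hdL : d ≤ L := Nat.le_log_of_pow_le (by norm_num) h2d
    have hlt : n < 2 ^ (L + 1) := Nat.lt_pow_succ_log_self (by norm_num) n
    have hΩ : cardFactors m ≤ (L + 1) * d := by
      refine (Nat.pow_le_pow_iff_right (le_refl 2)).1 (hpow.trans ?_)
      rw [pow_mul]
      exact Nat.pow_le_pow_left (by omega) d
    have h1 := large_numeric hL5
    have h2 : 2 ^ L ≤ n := Nat.pow_log_le_self 2 (by omega)
    have h3 : d + cardFactors m ≤ L * (L + 2) := by
      calc d + cardFactors m ≤ d + (L + 1) * d := by omega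
        _ = d * (L + 2) := by ring
        _ ≤ L * (L + 2) := Nat.mul_le_mul_right _ hdL
    omega
  push Not at hn
  have hd5 : d < 5 := by
    by_contra h
    push Not at h
    have := Nat.pow_le_pow_right (by norm_num : 1 ≤ 2) h
    omega
  have hp32 : p < 32 := lt_of_le_of_lt (Nat.le_self_pow (by omega) p) hn
  have hΩ := Nat.le_log_of_pow_le (by norm_num : 1 < 2) hpow
  interval_cases d
  · interval_cases p
    · have hm1 : m = 1 := by norm_num at hle; omega
      subst hm1
      norm_num
    all_goals first | (exfalso; revert hp; norm_num; done) | (norm_num at hΩ ⊢ <;> omega)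
  · have hp6 : p < 6 := by nlinarith
    interval_cases p
    · norm_num [Nat.factorial] at hdvd ⊢
      have : m ≤ 6 := Nat.le_of_dvd (by norm_num) hdvd
      have h2 := (two_pow_cardFactors_le hm).trans this
      have : cardFactors m < 3 := (Nat.pow_lt_pow_iff_right (by norm_num : 1 < 2)).1 (by omega)
      omega
    all_goals first | (exfalso; revert hp; norm_num; done) | (norm_num at hΩ ⊢ <;> omega)
  · have hp4 : p < 4 := by
      by_contra h
      push Not at h
      have := Nat.pow_le_pow_left h 3
      omega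
    interval_cases p
    · have := eight_numeric (m := m) (by simpa [Nat.factorial] using hdvd) (by simpa using hle)
      norm_num
      omega
    · norm_num at hΩ ⊢; omega
  · have hp3 : p < 3 := by
      by_contra h
      push Not at h
      have := Nat.pow_le_pow_left h 4
      omega
    interval_cases p
    norm_num at hΩ ⊢; omega

end CfsgLib.CompLength
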