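import Cfsg.Agent.CompLength.Series

/-!
# Powers of a non-abelian simple group
-/

set_option autoImplicit false

namespace CfsgLib.CompLength

open Subgroup

variable {ι : Type*} {T : Type*} [Group T]

theorem lenBd_fin_pi [IsSimpleGroup T] : ∀ k : ℕ, LenBd (Fin k → T) (3 * k)
  | 0 => lenBd_of_subsingleton _
  | k + 1 => by
    let f : (Fin (k + 1) → T) →* T := Pi.evalMonoidHom (fun _ => T) 0
    let g : (Fin k → T) ≃* f.ker :=
      { toFun := fun v => ⟨Fin.cons 1 v, by simp [f, MonoidHom.mem_ker]⟩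
        invFun := fun v => Fin.tail v.1
        left_inv := fun v => by ext i; simp [Fin.tail]
        right_inv := fun v => by
          ext i
          refine Fin.cases ?_ (fun j => ?_) i
          · have h : v.1 0 = 1 := v.2
            simp [h]
          · simp [Fin.tail]
        map_mul' := fun v w => by
          ext i
          refine Fin.cases ?_ (fun j => ?_) i <;> simp }
    haveI : IsSimpleGroup f.range := by
      have : f.range = ⊤ := MonoidHom.range_eq_top.2 fun t => ⟨fun _ => t, rfl⟩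
      rw [this]
      exact (topEquiv (G := T)).isSimpleGroup
    exact (LenBd.of_hom f ((lenBd_fin_pi k).congr g) lenBd_of_isSimpleGroup).mono (by omega)

theorem lenBd_pi [IsSimpleGroup T] [Fintype ι] : LenBd (ι → T) (3 * Fintype.card ι) := by
  refine (lenBd_fin_pi (T := T) (Fintype.card ι)).congr ?_
  exact { Equiv.arrowCongr (Fintype.equivFin ι).symm (Equiv.refl T) with map_mul' := fun _ _ => rfl }

section Factors

variable [DecidableEq ι]

/-- The `i`-th factor. -/
def factor (T : Type*) [Group T] (i : ι) : Subgroup (ι → T) :=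
  (MonoidHom.mulSingle (fun _ : ι => T) i).range

theorem mem_factor {i : ι} {f : ι → T} : f ∈ factor T i ↔ ∀ j, j ≠ i → f j = 1 := by
  constructor
  · rintro ⟨t, rfl⟩ j hj
    simp [hj]
  · intro h
    refine ⟨f i, funext fun j => ?_⟩
    by_cases hj : j = i
    · subst hj; simp
    · simp [hj, h j hj]

theorem mulSingle_mem_factor (i : ι) (t : T) : Pi.mulSingle i t ∈ factor T i := ⟨t, rfl⟩

theorem eq_mulSingle_of_mem_factor {i : ι} {f : ι → T} (h : f ∈ factor T i) :
    f = Pi.mulSingle i (f i) := by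
  funext j
  by_cases hj : j = i
  · subst hj; simp
  · simp [hj, mem_factor.1 h j hj]

instance factor_normal (i : ι) : (factor T i).Normal :=
  ⟨fun f hf g => mem_factor.2 fun j hj => by simp [mem_factor.1 hf j hj]⟩

theorem eq_of_factor_le [Nontrivial T] {i j : ι} (h : factor T i ≤ factor T j) : i = j := by
  by_contra hne
  obtain ⟨t, ht⟩ := exists_ne (1 : T)
  have := mem_factor.1 (h (mulSingle_mem_factor i t)) i hne
  simp at this
  exact ht this

theorem exists_not_commute [IsSimpleGroup T] (hT : ¬ IsMulCommutative T) {a : T} (ha : a ≠ 1) :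
    ∃ b : T, a * b * a⁻¹ * b⁻¹ ≠ 1 := by
  by_contra h
  push Not at h
  have hac : a ∈ center T := mem_center_iff.2 fun b => by
    have := h b
    rw [mul_inv_eq_one, mul_inv_eq_iff_eq_mul] at this
    exact this.symm
  refine hT ⟨⟨fun x y => ?_⟩⟩
  have : center T = ⊤ := (inferInstance : (center T).Normal).eq_bot_or_eq_top.resolve_left
    fun hb => ha (mem_bot.1 (hb ▸ hac))
  exact mem_center_iff.1 (this ▸ mem_top y) x

/-- A non-trivial normal subgroup contains a factor, and one on which a given element is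
non-trivial. -/
theorem factor_le_of_mem [IsSimpleGroup T] (hT : ¬ IsMulCommutative T) {K : Subgroup (ι → T)}
    (hK : K.Normal) {f : ι → T} (hf : f ∈ K) {i : ι} (hi : f i ≠ 1) : factor T i ≤ K := by
  obtain ⟨b, hb⟩ := exists_not_commute hT hi
  have hc : f * Pi.mulSingle i b * f⁻¹ * (Pi.mulSingle i b)⁻¹ ∈ K := by
    have h1 := K.mul_mem hf (hK.conj_mem f⁻¹ (K.inv_mem hf) (Pi.mulSingle i b))
    simpa [mul_assoc] using h1
  have he : f * Pi.mulSingle i b * f⁻¹ * (Pi.mulSingle i b)⁻¹
      = Pi.mulSingle i (f i * b * (f i)⁻¹ * b⁻¹) := by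
    funext j
    by_cases hj : j = i
    · subst hj; simp
    · simp [hj]
  rw [he] at hc
  have hn : (K.comap (MonoidHom.mulSingle (fun _ : ι => T) i)).Normal := hK.comap _
  have htop := hn.eq_bot_or_eq_top.resolve_left fun hbot => hb ((Subgroup.eq_bot_iff_forall _).1 hbot _
    (show f i * b * (f i)⁻¹ * b⁻¹ ∈ K.comap _ from hc))
  rintro _ ⟨t, rfl⟩
  exact (htop.ge (mem_top t) : t ∈ K.comap _)

theorem exists_factor_le [IsSimpleGroup T] (hT : ¬ IsMulCommutative T) {K : Subgroup (ι → T)}
    (hK : K.Normal) (hne : K ≠ ⊥) : ∃ i, factor T i ≤ K := by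
  obtain ⟨f, hf, hf1⟩ := K.bot_or_exists_ne_one.resolve_left hne
  obtain ⟨i, hi⟩ := Function.ne_iff.1 hf1
  exact ⟨i, factor_le_of_mem hT hK hf hi⟩

/-- An automorphism permutes the factors. -/
theorem exists_map_factor [IsSimpleGroup T] (hT : ¬ IsMulCommutative T)
    (σ : (ι → T) ≃* (ι → T)) (i : ι) :
    ∃ j, (factor T i).map σ.toMonoidHom = factor T j := by
  obtain ⟨t, ht⟩ := exists_ne (1 : T)
  have hne : (factor T i).map σ.toMonoidHom ≠ ⊥ := by
    rw [Ne, Subgroup.map_eq_bot_iff_of_injective _ σ.injective]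
    intro h
    have h1 := (Subgroup.eq_bot_iff_forall _).1 h _ (mulSingle_mem_factor i t)
    exact ht (by simpa using congrFun h1 i)
  obtain ⟨j, hj⟩ := exists_factor_le hT ((factor_normal i).map _ σ.surjective) hne
  refine ⟨j, le_antisymm ?_ hj⟩
  have hne' : (factor T j).comap σ.toMonoidHom ≠ ⊥ := by
    intro h
    have h1 := (Subgroup.eq_bot_iff_forall _).1 h (σ.symm (Pi.mulSingle j t))
      (by simpa using mulSingle_mem_factor j t)
    have h2 : Pi.mulSingle j t = (1 : ι → T) := by simpa using congrArg σ h1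
    exact ht (by simpa using congrFun h2 j)
  obtain ⟨l, hl⟩ := exists_factor_le hT (inferInstance : ((factor T j).comap σ.toMonoidHom).Normal) hne'
  have hle : (factor T j).comap σ.toMonoidHom ≤ factor T i := by
    intro x hx
    obtain ⟨y, hy, hyx⟩ := hj hx
    exact (σ.injective hyx) ▸ hy
  obtain rfl := eq_of_factor_le (hl.trans hle)
  exact map_le_iff_le_comap.2 hl

theorem five_le_card [Finite T] (hT : ¬ IsMulCommutative T) : 5 ≤ Nat.card T := by
  by_contra h
  push Not at h
  have hpos : 0 < Nat.card T := Nat.card_pos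
  apply hT
  interval_cases hc : Nat.card T
  · haveI : Subsingleton T := (Nat.card_eq_one_iff_unique.1 hc).1
    exact ⟨⟨fun _ _ => Subsingleton.elim _ _⟩⟩
  · haveI := isCyclic_of_prime_card (p := 2) hc
    exact ⟨⟨fun x y => (IsCyclic.commutative (α := T)).is_comm.comm x y⟩⟩
  · haveI : Fact (Nat.Prime 3) := ⟨Nat.prime_three⟩
    haveI := isCyclic_of_prime_card (p := 3) hc
    exact ⟨⟨fun x y => (IsCyclic.commutative (α := T)).is_comm.comm x y⟩⟩
  · haveI : Fact (Nat.Prime 2) := ⟨Nat.prime_two⟩
    exact ⟨⟨IsPGroup.commutative_of_card_eq_prime_sq (p := 2) (by rw [hc]; norm_num)⟩⟩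

/-- The product of the factors in `S`. -/
def supported (T : Type*) [Group T] (S : Set ι) : Subgroup (ι → T) where
  carrier := {f | ∀ j, j ∉ S → f j = 1}
  mul_mem' := fun hf hg j hj => by simp [hf j hj, hg j hj]
  one_mem' := fun _ _ => rfl
  inv_mem' := fun hf j hj => by simp [hf j hj]

/-- A subgroup with surjective projections meeting every factor trivially meets the product of some
`S` trivially, with `card ι ≤ 2 |S|`. -/
theorem exists_disjoint_supported [Fintype ι] [IsSimpleGroup T] (hT : ¬ IsMulCommutative T)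
    (D : Subgroup (ι → T)) (hsurj : ∀ i, D.map (Pi.evalMonoidHom (fun _ : ι => T) i) = ⊤)
    (hmeet : ∀ i, D ⊓ factor T i = ⊥) :
    ∃ S : Finset ι, Fintype.card ι ≤ 2 * S.card ∧ D ⊓ supported T (↑S : Set ι) = ⊥ := by
  classical
  obtain ⟨S, hS, hmax⟩ := Finset.exists_max_image
    (Finset.univ.filter fun S : Finset ι => D ⊓ supported T (↑S : Set ι) = ⊥) Finset.card
    ⟨∅, by
      simp only [Finset.mem_filter, Finset.mem_univ, true_and, Subgroup.eq_bot_iff_forall]
      intro f hf
      exact funext fun j => hf.2 j (by simp)⟩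
  simp only [Finset.mem_filter, Finset.mem_univ, true_and] at hS hmax
  refine ⟨S, ?_, hS⟩
  have key : ∀ j ∈ Sᶜ, ∃ s ∈ S, ∀ t : T, ∃ f ∈ D, (∀ l, l ∉ S → l ≠ j → f l = 1) ∧ f s = t := by
    intro j hj
    rw [Finset.mem_compl] at hj
    set E := D ⊓ supported T (↑(insert j S) : Set ι) with hE
    have hEne : E ≠ ⊥ := fun h => by
      have := hmax (insert j S) h
      rw [Finset.card_insert_of_notMem hj] at this
      omega
    obtain ⟨f, hf, hf1⟩ := E.bot_or_exists_ne_one.resolve_left hEne
    by_cases hs : ∃ s ∈ S, f s ≠ 1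
    · obtain ⟨s, hsS, hfs⟩ := hs
      refine ⟨s, hsS, fun t => ?_⟩
      have hn : (E.map (Pi.evalMonoidHom (fun _ : ι => T) s)).Normal := by
        refine ⟨?_⟩
        rintro _ ⟨e, he, rfl⟩ x
        obtain ⟨d, hd, rfl⟩ := (hsurj s).ge (mem_top x)
        exact ⟨d * e * d⁻¹, ⟨D.mul_mem (D.mul_mem hd he.1) (D.inv_mem hd),
          fun l hl => by simp [he.2 l hl]⟩, by simp⟩
      have htop := hn.eq_bot_or_eq_top.resolve_left fun h =>
        hfs ((Subgroup.eq_bot_iff_forall _).1 h _ ⟨f, hf, rfl⟩)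
      obtain ⟨e, he, het⟩ := htop.ge (mem_top t)
      exact ⟨e, he.1, fun l hl hlj => he.2 l (by simp [hl, hlj]), het⟩
    · push Not at hs
      refine absurd ((Subgroup.eq_bot_iff_forall _).1 (hmeet j) f ⟨hf.1, mem_factor.2 fun l hl => ?_⟩) hf1
      by_cases hlS : l ∈ S
      · exact hs l hlS
      · exact hf.2 l (by simp [hl, hlS])
  choose! φ hφS hφ using key
  have hinj : Set.InjOn φ ↑(Sᶜ : Finset ι) := by
    intro a ha b hb hab
    by_contra hne
    refine hT ⟨⟨fun x y => ?_⟩⟩
    obtain ⟨e, he, hes, hex⟩ := hφ a ha x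
    obtain ⟨f, hf, hfs, hfy⟩ := hφ b hb y
    have hcomm : e * f * e⁻¹ * f⁻¹ = 1 := by
      refine (Subgroup.eq_bot_iff_forall _).1 hS _
        ⟨D.mul_mem (D.mul_mem (D.mul_mem he hf) (D.inv_mem he)) (D.inv_mem hf), fun l hl => ?_⟩
      rw [Finset.mem_coe] at hl
      by_cases hla : l = a
      · have : f l = 1 := hfs l hl (hla ▸ hne)
        simp [this]
      · simp [hes l hl hla]
    have := congrFun hcomm (φ a)
    simp only [Pi.mul_apply, Pi.inv_apply, Pi.one_apply, hex] at this
    rw [hab, hfy, mul_inv_eq_one, mul_inv_eq_iff_eq_mul] at this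
    exact this
  have hc := Finset.card_le_card_of_injOn φ hφS hinj
  rw [Finset.card_compl] at hc
  omega

theorem card_supported [Fintype ι] (S : Finset ι) :
    Nat.card (supported T (↑S : Set ι)) = Nat.card T ^ S.card := by
  classical
  rw [← Fintype.card_coe S, ← Nat.card_eq_fintype_card, ← Nat.card_fun]
  exact Nat.card_congr
    { toFun := fun f i => f.1 i.1
      invFun := fun g => ⟨fun j => if h : j ∈ S then g ⟨j, h⟩ else 1,
        fun j hj => dif_neg (by simpa using hj)⟩
      left_inv := fun f => Subtype.ext (funext fun j => by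
        by_cases h : j ∈ S
        · simp [h]
        · simp [h, f.2 j (by simpa using h)])
      right_inv := fun g => funext fun i => by simp [i.2] }

theorem le_index_of_disjoint {G : Type*} [Group G] [Finite G] {D Q : Subgroup G} (h : D ⊓ Q = ⊥) :
    Nat.card Q ≤ D.index := by
  refine Nat.card_le_card_of_injective (fun q : Q => ((q : G) : G ⧸ D)) fun a b hab => ?_
  have h1 : (a : G)⁻¹ * b ∈ D ⊓ Q := ⟨QuotientGroup.eq.1 hab, Q.mul_mem (Q.inv_mem a.2) b.2⟩
  rw [h, mem_bot, inv_mul_eq_one] at h1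
  exact Subtype.ext h1

theorem prod_index_le [Fintype ι] [Finite T] (D : Subgroup (ι → T)) :
    ∏ i, (D.map (Pi.evalMonoidHom (fun _ : ι => T) i)).index ≤ D.index := by
  classical
  set H := fun i => D.map (Pi.evalMonoidHom (fun _ : ι => T) i)
  have hle : D ≤ Subgroup.pi Set.univ H := fun f hf i _ => ⟨f, hf, rfl⟩
  refine le_trans (le_of_eq ?_)
    (Nat.le_of_dvd (Nat.pos_of_ne_zero FiniteIndex.index_ne_zero) (index_dvd_of_le hle))
  have hcard : Nat.card (Subgroup.pi Set.univ H) = ∏ i, Nat.card (H i) := by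
    rw [← Nat.card_pi]
    exact Nat.card_congr
      { toFun := fun f i => ⟨f.1 i, f.2 i (Set.mem_univ i)⟩
        invFun := fun g => ⟨fun i => g i, fun i _ => (g i).2⟩
        left_inv := fun _ => rfl
        right_inv := fun _ => rfl }
  refine Nat.eq_of_mul_eq_mul_left (n := Nat.card (Subgroup.pi Set.univ H)) Nat.card_pos ?_
  rw [card_mul_index, hcard, ← Finset.prod_mul_distrib, Nat.card_pi]
  exact Finset.prod_congr rfl fun i _ => card_mul_index (H i)

end Factors

end CfsgLib.CompLength
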