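import Cfsg.Agent.CompLength.Affine
import Cfsg.Agent.CompLength.Conjugation
import Cfsg.Agent.CharSimple.Basic

/-!
# The composition length of a primitive group with non-abelian minimal normal subgroup
-/

set_option autoImplicit false

namespace CfsgLib.CompLength

open MulAction
open scoped Pointwise

theorem LenBd.three_le {G : Type*} [Group G] [Finite G] [Nontrivial G] {c : ℕ} (h : LenBd G c) :
    3 ≤ c := by
  obtain ⟨N, hN, hmax⟩ := (Set.toFinite {N : Subgroup G | N.Normal ∧ N ≠ ⊤}).exists_maximal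
    ⟨⊥, inferInstance, bot_ne_top⟩
  haveI := hN.1
  haveI : Nontrivial (G ⧸ N) := QuotientGroup.nontrivial_iff.2 hN.2
  have hs : IsSimpleGroup (G ⧸ N) := ⟨fun K hK => by
    by_cases htop : K.comap (QuotientGroup.mk' N) = ⊤
    · exact Or.inr (Subgroup.comap_injective (QuotientGroup.mk'_surjective N)
        (htop.trans (Subgroup.comap_top _).symm))
    · have hle : N ≤ K.comap (QuotientGroup.mk' N) := fun x hx => by
        rw [Subgroup.mem_comap, show QuotientGroup.mk' N x = 1 from (QuotientGroup.eq_one_iff x).2 hx]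
        exact one_mem K
      have hle' := hmax ⟨hK.comap _, htop⟩ hle
      refine Or.inl (Subgroup.comap_injective (QuotientGroup.mk'_surjective N) ?_)
      rw [MonoidHom.comap_bot, QuotientGroup.ker_mk']
      exact le_antisymm hle' hle⟩
  have h1 : Series (⊤ : Subgroup (G ⧸ N)) 1 := Series.bot.step bot_lt_top
    (normal_subgroupOf_of_conj fun x _ k hk _ => by simp [Subgroup.mem_bot.1 hk])
  have h2 := LenBd.of_surjective _ (QuotientGroup.mk'_surjective N) h 1 h1
  omega

theorem mul_lt_pow {k l : ℕ} (hk : 3 ≤ k) (hl : 2 ≤ l) : k * l < l ^ k := by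
  induction k, hk using Nat.le_induction with
  | base =>
    have : 2 * 2 ≤ l * l := Nat.mul_le_mul hl hl
    calc 3 * l < l * l * l := Nat.mul_lt_mul_of_pos_right (by omega) (by omega)
      _ = l ^ 3 := by ring
  | succ k hk ih =>
    rw [pow_succ, add_mul, one_mul]
    have : k * l + l ≤ (k * l) * 2 := by nlinarith
    calc k * l + l ≤ (k * l) * 2 := this
      _ < l ^ k * 2 := Nat.mul_lt_mul_of_pos_right ih (by norm_num)
      _ ≤ l ^ k * l := Nat.mul_le_mul_left _ hl

theorem two_mul_mul_lt_pow {t s : ℕ} (ht : 5 ≤ t) (hs : 2 ≤ s) : 2 * s * t < t ^ s := by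
  induction s, hs using Nat.le_induction with
  | base => nlinarith
  | succ s hs ih =>
    rw [pow_succ]
    have : 2 * (s + 1) * t ≤ (2 * s * t) * 2 := by nlinarith
    calc 2 * (s + 1) * t ≤ (2 * s * t) * 2 := this
      _ < t ^ s * 2 := Nat.mul_lt_mul_of_pos_right ih (by norm_num)
      _ ≤ t ^ s * t := Nat.mul_le_mul_left _ (by omega)

section

variable {G Ω : Type*} [Group G] [MulAction G Ω] [FaithfulSMul G Ω] [Finite G] [Finite Ω]
  [IsPreprimitive G Ω] [Nontrivial Ω]

/-- Conjugation on an orbit is faithful when the minimal normal subgroup moves something. -/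
theorem injective_of_moves {N : Subgroup G} (hN : MinNormal.IsMinNormal N)
    (hC : Subgroup.centralizer (N : Set G) = ⊥) {Y : Type*} (φ : G →* Equiv.Perm Y)
    (hmove : ∃ n ∈ N, φ n ≠ 1) : Function.Injective φ := by
  haveI := hN.normal
  rw [← MonoidHom.ker_eq_bot_iff]
  obtain ⟨n, hn, hn1⟩ := hmove
  have hmeet : φ.ker ⊓ N = ⊥ := (hN.minimal _ inferInstance inf_le_right).resolve_right
    fun h => hn1 (h.ge hn).1
  refine le_bot_iff.1 (le_trans (fun x hx => ?_) hC.le)
  exact Subgroup.mem_centralizer_iff.2 fun m hm =>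
    Subgroup.commute_of_normal_of_disjoint N φ.ker inferInstance inferInstance
      (disjoint_iff.2 (inf_comm φ.ker N ▸ hmeet)) m x hm hx

/-- The non-abelian case. -/
theorem lenBd_of_nonabelian (h : SmallBound (Nat.card Ω)) {N : Subgroup G}
    (hN : MinNormal.IsMinNormal N) (hnc : ¬ IsMulCommutative N) :
    LenBd G (4 * (Nat.card Ω - 1)) := by
  classical
  haveI := hN.normal
  haveI : IsPretransitive N Ω := MinNormal.isPretransitive_of_ne_bot hN.ne_bot
  obtain ⟨T, iT, iTf, k, hk1, hTs, hT, ⟨e⟩⟩ :=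
    CharSimple.exists_equiv_pi hN.normal hN.ne_bot hN.minimal hnc
  haveI : Fintype T := Fintype.ofFinite T
  obtain a := Classical.arbitrary Ω
  set S := stabilizer G a with hSdef
  haveI := faithfulSMul_ofStabilizer (G := G) a
  have hn2 : 2 ≤ Nat.card Ω := Finite.one_lt_card
  have hcardS : Nat.card (SubMulAction.ofStabilizer G a) = Nat.card Ω - 1 := card_ofStabilizer a
  haveI : Nonempty (SubMulAction.ofStabilizer G a) :=
    (Nat.card_pos_iff.1 (by omega : 0 < Nat.card (SubMulAction.ofStabilizer G a))).1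
  have hS : Bound S (SubMulAction.ofStabilizer G a) := h.bound (by omega)
  rw [Bound, hcardS] at hS
  set r := orbits S (SubMulAction.ofStabilizer G a) with hr
  have hr1 : 1 ≤ r := one_le_orbits
  have hr2 : r ≤ Nat.card Ω - 1 := hcardS ▸ orbits_le
  have hNb : LenBd N (3 * k) := by
    have := (lenBd_pi (ι := Fin k) (T := T)).congr e.symm
    rwa [Fintype.card_fin] at this
  set q : S →* G ⧸ N := (QuotientGroup.mk' N).comp S.subtype with hq
  have hqs : Function.Surjective q := stabilizer_to_quotient_surjective a N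
  -- the embedding of the power of `T` in `G`
  set emb : (Fin k → T) →* G := N.subtype.comp e.symm.toMonoidHom with hemb
  have hembi : Function.Injective emb := N.subtype_injective.comp e.symm.injective
  have hembN : ∀ f, emb f ∈ N := fun f => (e.symm f).2
  have hemb_conj : ∀ g f, emb (conjPi e g f) = g * emb f * g⁻¹ := fun g f => coe_symm_conjPi e g f
  by_cases hfree : ∀ n ∈ N, n • a = a → n = 1
  · -- regular
    have hkr : k ≤ r := by
      obtain ⟨t, ht⟩ := exists_ne (1 : T)
      let f : Fin k → (Fin k → T) := fun i j => if j ≤ i then t else 1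
      have hf : ∀ i, (Finset.univ.filter fun j => f i j ≠ 1).card = (i : ℕ) + 1 := fun i => by
        rw [show (Finset.univ.filter fun j => f i j ≠ 1) = Finset.Iic i by
          ext j; by_cases hji : j ≤ i <;> simp [f, hji, ht]]
        exact Fin.card_Iic i
      have hne : ∀ i, emb (f i) • a ≠ a := fun i hi => by
        have h1 := hembi ((hfree _ (hembN _) hi).trans (map_one emb).symm)
        exact ht (by simpa [f] using congrFun h1 i)
      rw [hr, ← Nat.card_fin k]
      refine Nat.card_le_card_of_injective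
        (fun i => Quotient.mk _ (⟨emb (f i) • a, hne i⟩ : SubMulAction.ofStabilizer G a))
        fun i j hij => ?_
      obtain ⟨⟨g, hg⟩, hgij⟩ := mem_orbit_iff.1 (orbitRel_apply.1 (Quotient.exact hij))
      have h1 : g • emb (f j) • a = emb (f i) • a := congrArg Subtype.val hgij
      have hga : g⁻¹ • a = a := by rw [inv_smul_eq_iff]; exact hg.symm
      have h2 : (emb (f i))⁻¹ * emb (conjPi e g (f j)) = 1 := by
        refine hfree _ (N.mul_mem (N.inv_mem (hembN _)) (hembN _)) ?_
        rw [hemb_conj, mul_smul, mul_smul, mul_smul, hga, h1, inv_smul_smul]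
      rw [inv_mul_eq_one] at h2
      have h4 := card_supp_map hT (conjPi e g) (f j)
      rw [← hembi h2, hf, hf] at h4
      exact Fin.ext (by omega)
    refine (LenBd.extension N hNb (LenBd.of_surjective q hqs hS)).mono ?_
    omega
  push Not at hfree
  obtain ⟨n₀, hn₀, hn₀a, hn₀1⟩ := hfree
  have hker : q.ker ≠ ⊥ := by
    intro hb
    have : (⟨n₀, hn₀a⟩ : S) ∈ q.ker := (QuotientGroup.eq_one_iff n₀).2 hn₀
    rw [hb, Subgroup.mem_bot] at this
    exact hn₀1 (congrArg Subtype.val this)
  have hQ : LenBd (G ⧸ N) (4 * (Nat.card Ω - 1 - r) - 3) :=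
    (hS.quotient q.ker hker).congr (QuotientGroup.quotientKerEquivOfSurjective q hqs)
  by_cases hk3 : k ≤ 2
  · haveI : Nontrivial S := ⟨⟨⟨n₀, hn₀a⟩, 1, fun he => hn₀1 (congrArg Subtype.val he)⟩⟩
    have := hS.three_le
    refine (LenBd.extension N hNb hQ).mono ?_
    omega
  push Not at hk3
  -- at least three factors
  have hC : Subgroup.centralizer (N : Set G) = ⊥ := by
    by_contra hC
    haveI : (Subgroup.centralizer (N : Set G)).Normal := inferInstance
    haveI : IsPretransitive (Subgroup.centralizer (N : Set G)) Ω :=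
      MinNormal.isPretransitive_of_ne_bot hC
    exact hn₀1 (MinNormal.eq_one_of_fix_of_commute
      (fun m hm => Subgroup.mem_centralizer_iff.1 hm n₀ hn₀) hn₀a)
  set D : Subgroup (Fin k → T) := (S.subgroupOf N).map e.toMonoidHom with hD
  have hmemD : ∀ f, f ∈ D ↔ emb f • a = a := fun f => by
    rw [hD, Subgroup.mem_map_equiv]; rfl
  have hDindex : D.index = Nat.card Ω := by
    rw [hD, Subgroup.index_map_of_bijective (f := e.toMonoidHom) e.bijective, show S.subgroupOf N = stabilizer N a from rfl,
      index_stabilizer_of_transitive]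
  have hDne : D ≠ ⊥ := fun hb => by
    have := (hmemD (e ⟨n₀, hn₀⟩)).2 (by simpa [hemb] using hn₀a)
    rw [hb, Subgroup.mem_bot, map_eq_one_iff _ e.injective] at this
    exact hn₀1 (congrArg Subtype.val this)
  have hDinv : ∀ g ∈ S, D.map (conjPi e g).toMonoidHom = D := fun g hg => by
    have hg' : g⁻¹ • a = a := by rw [inv_smul_eq_iff]; exact (mem_stabilizer_iff.1 hg).symm
    ext x
    constructor
    · rintro ⟨f, hf, rfl⟩
      refine (hmemD _).2 ?_
      show emb (conjPi e g f) • a = a
      rw [hemb_conj, mul_smul, mul_smul, hg', (hmemD f).1 hf]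
      exact hg
    · intro hx
      refine ⟨(conjPi e g).symm x, (hmemD _).2 ?_, (conjPi e g).apply_symm_apply x⟩
      have h1 := hemb_conj g ((conjPi e g).symm x)
      rw [MulEquiv.apply_symm_apply] at h1
      have h2 : emb ((conjPi e g).symm x) = g⁻¹ * emb x * g := by rw [h1]; group
      rw [h2, mul_smul, mul_smul, mem_stabilizer_iff.1 hg, (hmemD x).1 hx, hg']
  have htr : ∀ i j, ∃ g ∈ S, mapIdx hT (conjPi e g) i = j := fun i j => by
    obtain ⟨g, hg⟩ := exists_mapIdx_eq e hT hN.minimal i j
    obtain ⟨⟨n, hn⟩, hna⟩ := exists_smul_eq N (g • a) a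
    refine ⟨n * g, by rw [hSdef, mem_stabilizer_iff, mul_smul]; exact hna, ?_⟩
    rw [mapIdx_conjPi_mul e hT, mapIdx_conjPi_of_mem e hT hn, hg]
  let H : Fin k → Subgroup T := fun i => D.map (Pi.evalMonoidHom (fun _ => T) i)
  let X : Fin k → Subgroup G := fun i =>
    ((H i).map (MonoidHom.mulSingle (fun _ : Fin k => T) i)).map emb
  have hconj : ∀ g (Y : Subgroup (Fin k → T)),
      (Y.map emb).map (MulAut.conj g).toMonoidHom = (Y.map (conjPi e g).toMonoidHom).map emb := by
    intro g Y
    rw [Subgroup.map_map, Subgroup.map_map]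
    congr 1
    ext f
    exact (hemb_conj g f).symm
  have hXg : ∀ g ∈ S, ∀ i, (X i).map (MulAut.conj g).toMonoidHom = X (mapIdx hT (conjPi e g) i) :=
    fun g hg i => by
      simp only [X]
      rw [hconj]
      exact congrArg _ (map_proj_eq hT _ D (hDinv g hg) i)
  have hcardH : ∀ i j, Nat.card (H i) = Nat.card (H j) := fun i j => by
    obtain ⟨g, hg, rfl⟩ := htr i j
    have hX : ∀ l, Nat.card (X l) = Nat.card (H l) := fun l => by
      simp only [X]
      rw [Subgroup.card_map_of_injective hembi,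
        Subgroup.card_map_of_injective (fun x y hxy => by simpa using congrFun hxy l :
          Function.Injective (MonoidHom.mulSingle (fun _ : Fin k => T) l))]
    rw [← hX i, ← hX (mapIdx hT (conjPi e g) i), ← hXg g hg i]
    exact (Subgroup.card_map_of_injective (f := (MulAut.conj g).toMonoidHom) (K := X i) (MulAut.conj g).injective).symm
  let i₀ : Fin k := ⟨0, by omega⟩
  suffices ∃ (Y : Type _) (_ : Finite Y) (φ : G →* Equiv.Perm Y),
      Function.Injective φ ∧ Nat.card Y < Nat.card Ω by
    obtain ⟨Y, _, φ, hφ, hlt⟩ := this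
    exact h.of_embedding φ hφ hlt
  by_cases hsd : ∀ i, H i = ⊤
  · -- subdirect
    have hmeet : ∀ i, D ⊓ factor T i = ⊥ := by
      intro i
      by_contra hne
      have hfac : factor T i ≤ D := by
        have hn : (D.comap (MonoidHom.mulSingle (fun _ : Fin k => T) i)).Normal := ⟨fun y hy x => by
          obtain ⟨d, hd, hdx⟩ := (hsd i).ge (Subgroup.mem_top x)
          have hdx' : d i = x := hdx
          have h1 : d * Pi.mulSingle i y * d⁻¹ ∈ D := D.mul_mem (D.mul_mem hd hy) (D.inv_mem hd)
          have h2 : d * Pi.mulSingle i y * d⁻¹ = Pi.mulSingle i (x * y * x⁻¹) := by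
            funext l
            by_cases hl : l = i
            · subst hl; simp [hdx']
            · simp [hl]
          show Pi.mulSingle i (x * y * x⁻¹) ∈ D
          exact h2 ▸ h1⟩
        obtain ⟨f, hf, hf1⟩ := (D ⊓ factor T i).bot_or_exists_ne_one.resolve_left hne
        have htop := hn.eq_bot_or_eq_top.resolve_left fun hb => hf1 (by
          have h1 : f i ∈ D.comap (MonoidHom.mulSingle (fun _ : Fin k => T) i) := by
            show Pi.mulSingle i (f i) ∈ D
            rw [← eq_mulSingle_of_mem_factor hf.2]; exact hf.1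
          rw [hb, Subgroup.mem_bot] at h1
          rw [eq_mulSingle_of_mem_factor hf.2, h1, Pi.mulSingle_one])
        rintro _ ⟨t, rfl⟩
        exact htop.ge (Subgroup.mem_top t)
      have hall : ∀ j, factor T j ≤ D := fun j => by
        obtain ⟨g, hg, rfl⟩ := htr i j
        rw [← map_factor_eq hT, ← hDinv g hg]
        exact Subgroup.map_mono hfac
      have hDtop : D = ⊤ := (Subgroup.eq_top_iff' D).2 fun f =>
        Subgroup.pi_mem_of_mulSingle_mem f fun j => hall j (mulSingle_mem_factor j _)
      rw [hDtop, Subgroup.index_top] at hDindex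
      omega
    obtain ⟨P, hP, hPD⟩ := exists_disjoint_supported hT D hsd hmeet
    rw [Fintype.card_fin] at hP
    have hnT : Nat.card T ^ P.card ≤ Nat.card Ω := by
      rw [← card_supported, ← hDindex]
      exact le_index_of_disjoint hPD
    obtain ⟨t₀, ht₀⟩ := exists_ne (1 : T)
    set O : Set G := orbit (ConjAct G) (emb (Pi.mulSingle i₀ t₀))
    refine ⟨O, inferInstance, (MulAction.toPermHom (ConjAct G) O).comp
      (ConjAct.toConjAct : G ≃* ConjAct G).toMonoidHom, injective_of_moves hN hC _ ?_, ?_⟩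
    · obtain ⟨b, hb⟩ := exists_not_commute hT ht₀
      refine ⟨emb (Pi.mulSingle i₀ b), hembN _, fun he => hb ?_⟩
      have h1 : emb (Pi.mulSingle i₀ b) * emb (Pi.mulSingle i₀ t₀) * (emb (Pi.mulSingle i₀ b))⁻¹
          = emb (Pi.mulSingle i₀ t₀) :=
        congrArg Subtype.val (Equiv.congr_fun he ⟨_, mem_orbit_self _⟩)
      rw [← map_mul, ← map_inv, ← map_mul] at h1
      have h2 := congrFun (hembi h1) i₀
      simp at h2
      rw [mul_inv_eq_iff_eq_mul] at h2
      rw [← h2]; group
    · have hsub : O ⊆ Set.range fun p : Fin k × T => emb (Pi.mulSingle p.1 p.2) := by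
        rintro _ ⟨g, rfl⟩
        obtain ⟨g, rfl⟩ := (ConjAct.toConjAct : G ≃* ConjAct G).surjective g
        refine ⟨(mapIdx hT (conjPi e g) i₀, conjPi e g (Pi.mulSingle i₀ t₀) (mapIdx hT (conjPi e g) i₀)), ?_⟩
        show emb _ = ConjAct.toConjAct g • emb (Pi.mulSingle i₀ t₀)
        rw [← map_mulSingle_eq hT (conjPi e g) i₀ t₀, hemb_conj, ConjAct.toConjAct_smul]
      calc Nat.card O ≤ Nat.card ↑(Set.range fun p : Fin k × T => emb (Pi.mulSingle p.1 p.2)) :=
            Nat.card_mono (Set.toFinite _) hsub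
        _ ≤ Nat.card (Fin k × T) := Finite.card_range_le _
        _ = k * Nat.card T := by rw [Nat.card_prod, Nat.card_fin]
        _ ≤ 2 * P.card * Nat.card T := Nat.mul_le_mul_right _ hP
        _ < Nat.card T ^ P.card := two_mul_mul_lt_pow (five_le_card hT) (by omega)
        _ ≤ _ := hnT
  · -- proper projections
    push Not at hsd
    obtain ⟨i₁, hi₁⟩ := hsd
    have hproper : ∀ i, H i ≠ ⊤ := fun i hi => hi₁ (Subgroup.eq_top_of_card_eq _ (by
      rw [hcardH i₁ i, hi, Subgroup.card_top]))
    have hbot : ∀ i, H i ≠ ⊥ := fun i hi => hDne ((Subgroup.eq_bot_iff_forall _).2 fun f hf => funext fun j => by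
      have hj : H j = ⊥ := Subgroup.eq_bot_of_card_eq _ (by rw [hcardH j i, hi, Subgroup.card_bot])
      exact (Subgroup.eq_bot_iff_forall _).1 hj _ ⟨f, hf, rfl⟩)
    set l := (H i₀).index with hl
    have hindex : ∀ i, (H i).index = l := fun i => by
      refine Nat.eq_of_mul_eq_mul_left (n := Nat.card (H i)) Nat.card_pos ?_
      rw [Subgroup.card_mul_index, hcardH i i₀, hl, Subgroup.card_mul_index]
    have hl2 : 2 ≤ l := Subgroup.one_lt_index_of_ne_top (hproper i₀)
    set O : Set (Subgroup G) := orbit (ConjAct G) (X i₀)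
    have hsmul : ∀ g (Y : Subgroup G), ConjAct.toConjAct g • Y = Y.map (MulAut.conj g).toMonoidHom := by
      intro g Y
      rfl
    refine ⟨O, inferInstance, (MulAction.toPermHom (ConjAct G) O).comp
      (ConjAct.toConjAct : G ≃* ConjAct G).toMonoidHom, injective_of_moves hN hC _ ?_, ?_⟩
    · by_contra hc
      push Not at hc
      have hnorm : (H i₀).Normal := ⟨fun y hy x => by
        have h1 : ConjAct.toConjAct (emb (Pi.mulSingle i₀ x)) • X i₀ = X i₀ :=
          congrArg Subtype.val (Equiv.congr_fun (hc _ (hembN (Pi.mulSingle i₀ x))) ⟨_, mem_orbit_self _⟩)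
        rw [hsmul] at h1
        have h2 : emb (Pi.mulSingle i₀ (x * y * x⁻¹)) ∈ X i₀ := by
          rw [← h1]
          refine ⟨emb (Pi.mulSingle i₀ y), ⟨_, ⟨y, hy, rfl⟩, rfl⟩, ?_⟩
          simp [Pi.mulSingle_mul, Pi.mulSingle_inv]
        obtain ⟨_, ⟨z, hz, rfl⟩, hzx⟩ := h2
        rwa [← Pi.mulSingle_injective i₀ (hembi hzx)]⟩
      rcases hnorm.eq_bot_or_eq_top with h1 | h1
      · exact hbot i₀ h1
      · exact hproper i₀ h1
    · let Φ : (Σ j : Fin k, T ⧸ H j) → Subgroup G := fun p =>
        (((H p.1).map (MulAut.conj p.2.out).toMonoidHom).map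
          (MonoidHom.mulSingle (fun _ : Fin k => T) p.1)).map emb
      have hsub : O ⊆ Set.range Φ := by
        rintro _ ⟨g, rfl⟩
        obtain ⟨g, rfl⟩ := (ConjAct.toConjAct : G ≃* ConjAct G).surjective g
        obtain ⟨⟨n, hn⟩, hna⟩ := exists_smul_eq N (g • a) a
        have hng : n * g ∈ S := by rw [hSdef, mem_stabilizer_iff, mul_smul]; exact hna
        set j := mapIdx hT (conjPi e (n * g)) i₀
        set u : T := e ⟨n⁻¹, N.inv_mem hn⟩ j with hu
        refine ⟨⟨j, (u : T ⧸ H j)⟩, ?_⟩
        show Φ _ = ConjAct.toConjAct g • X i₀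
        have hgsplit : ∀ Y : Subgroup G, Y.map (MulAut.conj g).toMonoidHom =
            (Y.map (MulAut.conj (n * g)).toMonoidHom).map (MulAut.conj n⁻¹).toMonoidHom := fun Y => by
          rw [Subgroup.map_map]
          congr 1
          ext x
          simp [mul_assoc]
        rw [hsmul, hgsplit (X i₀), hXg _ hng i₀]
        simp only [X, Φ]
        rw [hconj]
        refine congrArg (Subgroup.map emb) ?_
        obtain ⟨c, hc⟩ : ∃ c : H j, (u : T ⧸ H j).out = u * c := QuotientGroup.mk_out_eq_mul (H j) u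
        have hσ : ∀ y, conjPi e n⁻¹ (Pi.mulSingle j y) = Pi.mulSingle j (u * y * u⁻¹) := fun y => by
          rw [conjPi_of_mem e (N.inv_mem hn)]
          funext l'
          by_cases hl' : l' = j
          · subst hl'; simp [hu]
          · simp [hl']
        ext z
        constructor
        · rintro ⟨_, ⟨y, hy, rfl⟩, rfl⟩
          refine ⟨_, ⟨c * y * (c : T)⁻¹, (H j).mul_mem ((H j).mul_mem c.2 hy) ((H j).inv_mem c.2), rfl⟩, ?_⟩
          show conjPi e n⁻¹ (Pi.mulSingle j _) = Pi.mulSingle j ((u : T ⧸ H j).out * y * ((u : T ⧸ H j).out)⁻¹)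
          rw [hσ, hc]
          congr 1
          group
        · rintro ⟨_, ⟨y, hy, rfl⟩, rfl⟩
          refine ⟨_, ⟨(c : T)⁻¹ * y * c, (H j).mul_mem ((H j).mul_mem ((H j).inv_mem c.2) hy) c.2, rfl⟩, ?_⟩
          show Pi.mulSingle j ((u : T ⧸ H j).out * _ * ((u : T ⧸ H j).out)⁻¹) = conjPi e n⁻¹ (Pi.mulSingle j y)
          rw [hσ, hc]
          congr 1
          group
      calc Nat.card O ≤ Nat.card ↑(Set.range Φ) := Nat.card_mono (Set.toFinite _) hsub
        _ ≤ Nat.card (Σ j : Fin k, T ⧸ H j) := Finite.card_range_le _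
        _ = k * l := by
          rw [Nat.card_sigma]
          simp only [← Subgroup.index_eq_card, hindex]
          simp
        _ < l ^ k := mul_lt_pow hk3 hl2
        _ = ∏ i, (H i).index := by simp [hindex]
        _ ≤ D.index := prod_index_le D
        _ = _ := hDindex

end

end CfsgLib.CompLength
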