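import Mathlib

/-!
# Subnormal series and bounds for the composition length

`Series H l`: there is a strictly increasing chain of length `l` from `⊥` to `H`, each term normal in
the next. `LenBd G c`: three times the length of such a chain up to `⊤` is at most `c`.
-/

set_option autoImplicit false

namespace CfsgLib.CompLength

open Subgroup

variable {G : Type*} [Group G] {G' : Type*} [Group G']

/-- A strictly increasing subnormal series of length `l` from `⊥` to `H`. -/
inductive Series : Subgroup G → ℕ → Prop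
  | bot : Series ⊥ 0
  | step {K H : Subgroup G} {l : ℕ} : Series K l → K < H → (K.subgroupOf H).Normal → Series H (l + 1)

/-- Three times every series length of `G` is at most `c`. -/
def LenBd (G : Type*) [Group G] (c : ℕ) : Prop :=
  ∀ l, Series (⊤ : Subgroup G) l → 3 * l ≤ c

theorem LenBd.mono {c d : ℕ} (h : LenBd G c) (hcd : c ≤ d) : LenBd G d :=
  fun l hl => (h l hl).trans hcd

theorem normal_subgroupOf_of_conj {K H : Subgroup G}
    (h : ∀ x ∈ H, ∀ k ∈ K, k ∈ H → x * k * x⁻¹ ∈ K) : (K.subgroupOf H).Normal :=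
  ⟨fun k hk x => h x x.2 k hk k.2⟩

theorem conj_mem_of_normal_subgroupOf {K H : Subgroup G} (h : (K.subgroupOf H).Normal)
    {x k : G} (hx : x ∈ H) (hk : k ∈ K) (hkH : k ∈ H) : x * k * x⁻¹ ∈ K :=
  h.conj_mem ⟨k, hkH⟩ hk ⟨x, hx⟩

/-- A series from a chain indexed by `Fin`. -/
theorem Series.of_chain (l : ℕ) (H : Fin (l + 1) → Subgroup G) (h0 : H 0 = ⊥)
    (hchain : ∀ i : Fin l, H i.castSucc < H i.succ ∧ ((H i.castSucc).subgroupOf (H i.succ)).Normal) :
    Series (H (Fin.last l)) l := by
  suffices ∀ i : ℕ, ∀ hi : i < l + 1, Series (H ⟨i, hi⟩) i from this l (Nat.lt_succ_self l)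
  intro i
  induction i with
  | zero => intro hi; rw [show (⟨0, hi⟩ : Fin (l + 1)) = 0 from rfl, h0]; exact Series.bot
  | succ i ih =>
    intro hi
    obtain ⟨h1, h2⟩ := hchain ⟨i, Nat.lt_of_succ_lt_succ hi⟩
    exact (ih (Nat.lt_of_succ_lt hi)).step h1 h2

/-- A series pulls back along an injective homomorphism whose range contains its top. -/
theorem Series.comap {f : G' →* G} (hf : Function.Injective f) {H : Subgroup G} {l : ℕ}
    (h : Series H l) : H ≤ f.range → Series (H.comap f) l := by
  induction h with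
  | bot =>
    intro _
    rw [MonoidHom.comap_bot, f.ker_eq_bot_iff.2 hf]
    exact Series.bot
  | @step K H l _ hlt hn ih =>
    intro hle
    refine (ih (hlt.le.trans hle)).step (lt_of_le_of_ne (comap_mono hlt.le) fun he => hlt.ne ?_)
      (normal_subgroupOf_of_conj fun x hx k hk hkH => ?_)
    · rw [← map_comap_eq_self (hlt.le.trans hle), he, map_comap_eq_self hle]
    · rw [mem_comap] at hx hk hkH ⊢
      simpa using conj_mem_of_normal_subgroupOf hn hx hk hkH

theorem LenBd.congr {c : ℕ} (e : G ≃* G') (h : LenBd G c) : LenBd G' c := fun l hl =>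
  h l (by
    have := Series.comap (f := e.toMonoidHom) e.injective hl (fun x _ => ⟨e.symm x, e.apply_symm_apply x⟩)
    rwa [comap_top] at this)

theorem lenBd_of_subsingleton [Subsingleton G] (c : ℕ) : LenBd G c := by
  intro l hl
  generalize hT : (⊤ : Subgroup G) = H at hl
  cases hl with
  | bot => simp
  | step _ hlt _ => exact absurd (Subsingleton.elim _ _) hlt.ne

/-- Intersections with and images modulo a normal subgroup. -/
theorem Series.split {N : Subgroup G} [N.Normal] {H : Subgroup G} {l : ℕ} (h : Series H l) :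
    ∃ a b, l ≤ a + b ∧ Series (H ⊓ N) a ∧ Series (H.map (QuotientGroup.mk' N)) b := by
  induction h with
  | bot => exact ⟨0, 0, le_rfl, by rw [bot_inf_eq]; exact Series.bot,
      by rw [Subgroup.map_bot]; exact Series.bot⟩
  | @step K H l _ hlt hn ih =>
    obtain ⟨a, b, hl, ha, hb⟩ := ih
    have hn1 : ((K ⊓ N).subgroupOf (H ⊓ N)).Normal := normal_subgroupOf_of_conj fun x hx k hk hkH =>
      ⟨conj_mem_of_normal_subgroupOf hn hx.1 hk.1 hkH.1,
        N.mul_mem (N.mul_mem hx.2 hk.2) (N.inv_mem hx.2)⟩
    have hn2 : ((K.map (QuotientGroup.mk' N)).subgroupOf (H.map (QuotientGroup.mk' N))).Normal := by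
      refine normal_subgroupOf_of_conj ?_
      rintro _ ⟨x, hx, rfl⟩ _ ⟨k, hk, rfl⟩ _
      exact ⟨x * k * x⁻¹, conj_mem_of_normal_subgroupOf hn hx hk (hlt.le hk), by simp⟩
    by_cases h1 : K ⊓ N = H ⊓ N
    · by_cases h2 : K.map (QuotientGroup.mk' N) = H.map (QuotientGroup.mk' N)
      · refine absurd ?_ hlt.ne
        refine le_antisymm hlt.le fun x hx => ?_
        obtain ⟨k, hk, hkx⟩ := h2.ge ⟨x, hx, rfl⟩
        have hkxN : k⁻¹ * x ∈ N := QuotientGroup.eq.1 hkx
        have : k⁻¹ * x ∈ K ⊓ N := h1.ge ⟨H.mul_mem (H.inv_mem (hlt.le hk)) hx, hkxN⟩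
        simpa using K.mul_mem hk this.1
      · exact ⟨a, b + 1, by omega, h1 ▸ ha, hb.step (lt_of_le_of_ne (map_mono hlt.le) h2) hn2⟩
    · have ha' := ha.step (lt_of_le_of_ne (inf_le_inf_right N hlt.le) h1) hn1
      by_cases h2 : K.map (QuotientGroup.mk' N) = H.map (QuotientGroup.mk' N)
      · exact ⟨a + 1, b, by omega, ha', h2 ▸ hb⟩
      · exact ⟨a + 1, b + 1, by omega, ha', hb.step (lt_of_le_of_ne (map_mono hlt.le) h2) hn2⟩

/-- The length is subadditive in extensions. -/
theorem LenBd.extension (N : Subgroup G) [N.Normal] {a b : ℕ} (hN : LenBd N a)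
    (hQ : LenBd (G ⧸ N) b) : LenBd G (a + b) := by
  intro l hl
  obtain ⟨x, y, hxy, hx, hy⟩ := Series.split (N := N) hl
  rw [top_inf_eq] at hx
  rw [map_top_of_surjective _ (QuotientGroup.mk'_surjective N)] at hy
  have hx' := Series.comap (f := N.subtype) N.subtype_injective hx (le_of_eq N.range_subtype.symm)
  rw [← subgroupOf, subgroupOf_self] at hx'
  have := hN x hx'
  have := hQ y hy
  omega

/-- Subadditivity along a homomorphism. -/
theorem LenBd.of_hom (f : G →* G') {a b : ℕ} (hK : LenBd f.ker a) (hI : LenBd f.range b) :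
    LenBd G (a + b) :=
  LenBd.extension f.ker hK (hI.congr (QuotientGroup.quotientKerEquivRange f).symm)

theorem Series.comap_quotient (N : Subgroup G) [N.Normal] (hN : N ≠ ⊥) {H : Subgroup (G ⧸ N)}
    {l : ℕ} (h : Series H l) : Series (H.comap (QuotientGroup.mk' N)) (l + 1) := by
  induction h with
  | bot =>
    rw [MonoidHom.comap_bot, QuotientGroup.ker_mk']
    exact Series.bot.step (bot_lt_iff_ne_bot.2 hN)
      (normal_subgroupOf_of_conj fun x _ k hk _ => by simp [mem_bot.1 hk])
  | @step K H l _ hlt hn ih =>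
    refine ih.step (lt_of_le_of_ne (comap_mono hlt.le) fun he => hlt.ne
      (comap_injective (QuotientGroup.mk'_surjective N) he))
      (normal_subgroupOf_of_conj fun x hx k hk hkH => ?_)
    rw [mem_comap] at hx hk hkH ⊢
    simpa using conj_mem_of_normal_subgroupOf hn hx hk hkH

/-- A proper quotient is at least one step shorter. -/
theorem LenBd.quotient (N : Subgroup G) [N.Normal] (hN : N ≠ ⊥) {c : ℕ} (h : LenBd G c) :
    LenBd (G ⧸ N) (c - 3) := by
  intro l hl
  have := h (l + 1) (by simpa using Series.comap_quotient N hN hl)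
  omega

/-- Quotients are not longer. -/
theorem LenBd.of_surjective (f : G →* G') (hf : Function.Surjective f) {c : ℕ} (h : LenBd G c) :
    LenBd G' c := by
  refine LenBd.congr (QuotientGroup.quotientKerEquivOfSurjective f hf) ?_
  by_cases hk : f.ker = ⊥
  · haveI := hk
    exact LenBd.congr ((QuotientGroup.quotientBot (G := G)).symm.trans
      (QuotientGroup.quotientMulEquivOfEq hk.symm)) h
  · exact (h.quotient f.ker hk).mono (Nat.sub_le _ _)

theorem lenBd_of_isSimpleGroup [IsSimpleGroup G] : LenBd G 3 := by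
  intro l hl
  generalize hT : (⊤ : Subgroup G) = H at hl
  cases hl with
  | bot => simp
  | @step K _ m h hlt hn =>
    subst hT
    have : K = ⊥ := by
      have hK : K.Normal := ⟨fun k hk x => conj_mem_of_normal_subgroupOf hn (mem_top x) hk (mem_top k)⟩
      exact hK.eq_bot_or_eq_top.resolve_right hlt.ne
    subst this
    cases h with
    | bot => omega
    | step _ hlt' _ => exact absurd hlt' not_lt_bot

/-- The number of prime factors bounds the length. -/
theorem Series.le_cardFactors [Finite G] {H : Subgroup G} {l : ℕ} (h : Series H l) :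
    l ≤ ArithmeticFunction.cardFactors (Nat.card H) := by
  induction h with
  | bot => simp
  | @step K H l _ hlt _ ih =>
    have hmul : K.relIndex H * Nat.card K = Nat.card H := by
      rw [mul_comm, ← Nat.card_congr (subgroupOfEquivOfLe hlt.le).toEquiv]
      exact card_mul_index _
    rw [← hmul, ArithmeticFunction.cardFactors_mul ?_ Nat.card_pos.ne']
    · have h2 : 1 ≤ ArithmeticFunction.cardFactors (K.relIndex H) := by
        by_contra hc
        push Not at hc
        have hne : K.relIndex H ≠ 1 := fun h1 => hlt.not_ge (relIndex_eq_one.1 h1)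
        obtain ⟨p, hp, hd⟩ := Nat.exists_prime_and_dvd hne
        obtain ⟨e, he⟩ := hd
        have he0 : e ≠ 0 := fun h0 => by
          have := FiniteIndex.index_ne_zero (H := K.subgroupOf H)
          exact this (by rw [← relIndex, he, h0, mul_zero])
        rw [he, ArithmeticFunction.cardFactors_mul hp.ne_zero he0,
          ArithmeticFunction.cardFactors_apply_prime hp] at hc
        omega
      omega
    · exact FiniteIndex.index_ne_zero (H := K.subgroupOf H)

theorem lenBd_cardFactors [Finite G] : LenBd G (3 * ArithmeticFunction.cardFactors (Nat.card G)) := by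
  intro l hl
  have := hl.le_cardFactors
  rw [card_top] at this
  omega

end CfsgLib.CompLength
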